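import Groth.Agent.ResProp.EF.Grp

/-!
# The projection `E → H` of an admissible group has a (ring theoretic) section

`Adm H E ι` ⇒ there is a `k`-algebra map `r : O(E) → O(H)` with `r ∘ ι = id` (the zero section), so `M ⊗ ι` is injective
for every `k`-module `M` and coactions through `ι` are unique (`through_unique`).
-/

set_option autoImplicit false

universe u

open TensorProduct

noncomputable section

namespace Groth.Agent.ResProp.EF.K787

open Grp

variable {k : Type u} [CommRing k]

/-- `0 ∈ A^nat` -/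
theorem isNat_zero {A : Type u} [CommRing A] : IsNat (0 : A) := by
  intro n
  cases n with
  | zero => simp
  | succ n => simp

/-- a free module over a domain of characteristic zero has no `ℤ`-torsion -/
theorem regular_of_free [IsDomain k] [CharZero k] (M : Type u) [CommRing M] [Algebra k M] [Module.Free k M]
    (n : ℕ) (hn : n ≠ 0) : IsSMulRegular M (n : ℕ) := by
  have h : ((n : ℕ) : k) ≠ 0 := Nat.cast_ne_zero.2 hn
  intro x y hxy
  have h2 : ((n : ℕ) : k) • x = ((n : ℕ) : k) • y := by
    simpa [Nat.cast_smul_eq_nsmul] using hxy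
  have h3 : ((n : ℕ) : k) • (x - y) = 0 := by rw [smul_sub, h2, sub_self]
  have h4 := (smul_eq_zero.1 h3).resolve_left h
  exact sub_eq_zero.1 h4

/-- the zero section of a one step extension -/
theorem OneStep.exists_retr [IsDomain k] [CharZero k] {E : Gp k} (S : OneStep E) :
    ∃ r : S.E'.O →ₐ[k] E.O, r.comp (S.ι : E.O →ₐ[k] S.E'.O) = AlgHom.id k E.O := by
  obtain ⟨h, ⟨h1, -⟩, -⟩ := S.univ E.O (fun n hn => regular_of_free (k := k) E.O n hn) (AlgHom.id k E.O) 0
    (fun f => by rw [map_zero]; exact isNat_zero)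
  exact ⟨h, h1⟩

/-- **an admissible group has a section over `H`** (a map of algebras) -/
theorem Adm.exists_retr [IsDomain k] [CharZero k] {H E : Gp k} {ι : H.O →ₐc[k] E.O} (h : Adm H E ι) :
    ∃ r : E.O →ₐ[k] H.O, r.comp (ι : H.O →ₐ[k] E.O) = AlgHom.id k H.O := by
  induction h with
  | base => exact ⟨AlgHom.id k H.O, by ext x; rfl⟩
  | step E ι _ S ih =>
    obtain ⟨r, hr⟩ := ih
    obtain ⟨q, hq⟩ := OneStep.exists_retr S
    refine ⟨r.comp q, ?_⟩
    ext x
    have h1 : q (S.ι (ι x)) = ι x := congrArg (fun f => f (ι x)) hq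
    have h2 : r (ι x) = x := congrArg (fun f => f x) hr
    change r (q (S.ι (ι x))) = x
    rw [h1, h2]

/-- the linear form -/
theorem Adm.exists_linear_retr [IsDomain k] [CharZero k] {H E : Gp k} {ι : H.O →ₐc[k] E.O} (h : Adm H E ι) :
    ∃ r : E.O →ₗ[k] H.O, r ∘ₗ (ι : H.O →ₐ[k] E.O).toLinearMap = LinearMap.id := by
  obtain ⟨r, hr⟩ := Adm.exists_retr h
  exact ⟨r.toLinearMap, LinearMap.ext fun x => congrArg (fun f => f x) hr⟩

/-- `M ⊗ ι` is injective for every `k`-module `M` -/
theorem Adm.lTensor_injective [IsDomain k] [CharZero k] {H E : Gp k} {ι : H.O →ₐc[k] E.O} (h : Adm H E ι)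
    (M : Type*) [AddCommGroup M] [Module k M] :
    Function.Injective ((ι : H.O →ₐ[k] E.O).toLinearMap.lTensor M) := by
  obtain ⟨r, hr⟩ := Adm.exists_linear_retr h
  intro x y hxy
  have h1 := congrArg (r.lTensor M) hxy
  rw [← LinearMap.comp_apply, ← LinearMap.comp_apply, ← LinearMap.lTensor_comp, hr, LinearMap.lTensor_id] at h1
  exact h1

/-- a coaction of `H` is determined by the coaction of `E` -/
theorem Adm.through_unique [IsDomain k] [CharZero k] {H E : Gp k} {ι : H.O →ₐc[k] E.O} (h : Adm H E ι)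
    {M : Type*} [AddCommGroup M] [Module k M] {x y : M ⊗[k] H.O}
    (hxy : (ι : H.O →ₐ[k] E.O).toLinearMap.lTensor M x = (ι : H.O →ₐ[k] E.O).toLinearMap.lTensor M y) : x = y :=
  Adm.lTensor_injective h M hxy

/-- `ι` is injective -/
theorem Adm.injective [IsDomain k] [CharZero k] {H E : Gp k} {ι : H.O →ₐc[k] E.O} (h : Adm H E ι) :
    Function.Injective (ι : H.O →ₐ[k] E.O) := by
  obtain ⟨r, hr⟩ := Adm.exists_retr h
  exact Function.LeftInverse.injective (g := r) fun x => congrArg (fun f => f x) hr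

end Groth.Agent.ResProp.EF.K787
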