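import Groth.Prelude.Def_Hoch
import Groth.Prelude.Def_ComodTens

/-!
# Restriction of a coaction along injective maps, coactions on quotients
-/

set_option autoImplicit false

universe u

open TensorProduct

noncomputable section

namespace Groth.Agent.ResProp.EF.K787

section

variable {k : Type u} [CommRing k] {O : Type u} [CommRing O] [HopfAlgebra k O]
  {N₁ N₂ : Type u} [AddCommGroup N₁] [Module k N₁] [AddCommGroup N₂] [Module k N₂]
  {c₁ : N₁ →ₗ[k] N₁ ⊗[k] O} {c₂ : N₂ →ₗ[k] N₂ ⊗[k] O} {g : N₁ →ₗ[k] N₂}

theorem key_assoc (h : ∀ n, g.rTensor O (c₁ n) = c₂ (g n)) (n : N₁) :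
    g.rTensor (O ⊗[k] O) (TensorProduct.assoc k N₁ O O (c₁.rTensor O (c₁ n))) =
      TensorProduct.assoc k N₂ O O (c₂.rTensor O (c₂ (g n))) := by
  rw [← h n]
  generalize c₁ n = w
  induction w with
  | zero => simp
  | add x y hx hy => simp only [map_add, hx, hy]
  | tmul x o =>
    simp only [LinearMap.rTensor_tmul]
    rw [← h x]
    generalize c₁ x = v
    induction v with
    | zero => simp
    | add a b ha hb => simp only [map_add, TensorProduct.add_tmul, ha, hb]
    | tmul a b => simp

theorem key_comul (h : ∀ n, g.rTensor O (c₁ n) = c₂ (g n)) (n : N₁) :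
    g.rTensor (O ⊗[k] O) ((CoalgebraStruct.comul (R := k) (A := O)).lTensor N₁ (c₁ n)) =
      (CoalgebraStruct.comul (R := k) (A := O)).lTensor N₂ (c₂ (g n)) := by
  rw [← h n]
  generalize c₁ n = w
  induction w with
  | zero => simp
  | add x y hx hy => simp only [map_add, hx, hy]
  | tmul x o => simp

theorem key_counit (h : ∀ n, g.rTensor O (c₁ n) = c₂ (g n)) (n : N₁) :
    g.rTensor k ((CoalgebraStruct.counit (R := k) (A := O)).lTensor N₁ (c₁ n)) =
      (CoalgebraStruct.counit (R := k) (A := O)).lTensor N₂ (c₂ (g n)) := by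
  rw [← h n]
  generalize c₁ n = w
  induction w with
  | zero => simp
  | add x y hx hy => simp only [map_add, hx, hy]
  | tmul x o => simp

/-- `c₁` is a coaction if `c₂` is one and `g` is universally injective enough -/
@[reducible] def comodOfInj (h : ∀ n, g.rTensor O (c₁ n) = c₂ (g n)) (co : HopfRep.Comod k O N₂) (hco : co.coact = c₂)
    (h₁ : Function.Injective (g.rTensor (O ⊗[k] O))) (h₂ : Function.Injective (g.rTensor k)) :
    HopfRep.Comod k O N₁ where
  coact := c₁
  coassoc := by
    refine LinearMap.ext fun n => h₁ ?_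
    change g.rTensor (O ⊗[k] O) (TensorProduct.assoc k N₁ O O (c₁.rTensor O (c₁ n))) =
      g.rTensor (O ⊗[k] O) ((CoalgebraStruct.comul (R := k) (A := O)).lTensor N₁ (c₁ n))
    rw [key_assoc h, key_comul h, ← hco]
    exact LinearMap.congr_fun co.coassoc (g n)
  counit_comp := by
    refine LinearMap.ext fun n => h₂ ?_
    change g.rTensor k ((CoalgebraStruct.counit (R := k) (A := O)).lTensor N₁ (c₁ n)) =
      g.rTensor k (n ⊗ₜ[k] (1 : k))
    rw [key_counit h, ← hco]
    exact LinearMap.congr_fun co.counit_comp (g n)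

/-- `c₂` is a coaction if `c₁` is one and `g` is surjective -/
@[reducible] def comodOfSurj (h : ∀ n, g.rTensor O (c₁ n) = c₂ (g n)) (co : HopfRep.Comod k O N₁) (hco : co.coact = c₁)
    (hg : Function.Surjective g) : HopfRep.Comod k O N₂ where
  coact := c₂
  coassoc := by
    refine LinearMap.ext fun n => ?_
    obtain ⟨n, rfl⟩ := hg n
    change TensorProduct.assoc k N₂ O O (c₂.rTensor O (c₂ (g n))) =
      (CoalgebraStruct.comul (R := k) (A := O)).lTensor N₂ (c₂ (g n))
    rw [← key_assoc h, ← key_comul h, ← hco]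
    exact congrArg _ (LinearMap.congr_fun co.coassoc n)
  counit_comp := by
    refine LinearMap.ext fun n => ?_
    obtain ⟨n, rfl⟩ := hg n
    change (CoalgebraStruct.counit (R := k) (A := O)).lTensor N₂ (c₂ (g n)) = g n ⊗ₜ[k] (1 : k)
    rw [← key_counit h, ← hco]
    exact congrArg (g.rTensor k) (LinearMap.congr_fun co.counit_comp n)

end

section

variable {k : Type u} [CommRing k] {O : Type u} [CommRing O] [HopfAlgebra k O] [Module.Flat k O]
  {N₁ N₂ : Type u} [AddCommGroup N₁] [Module k N₁] [AddCommGroup N₂] [Module k N₂] (g : N₁ →ₗ[k] N₂)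

theorem inj_O (hg : Function.Injective g) : Function.Injective (g.rTensor O) :=
  Module.Flat.rTensor_preserves_injective_linearMap g hg

theorem inj_OO (hg : Function.Injective g) : Function.Injective (g.rTensor (O ⊗[k] O)) :=
  Module.Flat.rTensor_preserves_injective_linearMap g hg

theorem inj_k (hg : Function.Injective g) : Function.Injective (g.rTensor k) :=
  Module.Flat.rTensor_preserves_injective_linearMap g hg

/-- restriction of a coaction along an injective map -/
def restrCo (co : HopfRep.Comod k O N₂) (hg : Function.Injective g)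
    (h : ∀ n, co.coact (g n) ∈ LinearMap.range (g.rTensor O)) : N₁ →ₗ[k] N₁ ⊗[k] O :=
  (LinearEquiv.ofInjective (g.rTensor O) (inj_O g hg)).symm.toLinearMap ∘ₗ
    (co.coact ∘ₗ g).codRestrict (LinearMap.range (g.rTensor O)) h

theorem restrCo_spec (co : HopfRep.Comod k O N₂) (hg : Function.Injective g)
    (h : ∀ n, co.coact (g n) ∈ LinearMap.range (g.rTensor O)) (n : N₁) :
    g.rTensor O (restrCo g co hg h n) = co.coact (g n) := by
  have := (LinearEquiv.ofInjective (g.rTensor O) (inj_O g hg)).apply_symm_apply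
    ((co.coact ∘ₗ g).codRestrict (LinearMap.range (g.rTensor O)) h n)
  exact congrArg Subtype.val this

/-- restriction of a comodule structure along an injective map -/
@[reducible] def restr (co : HopfRep.Comod k O N₂) (hg : Function.Injective g)
    (h : ∀ n, co.coact (g n) ∈ LinearMap.range (g.rTensor O)) : HopfRep.Comod k O N₁ :=
  comodOfInj (c₁ := restrCo g co hg h) (restrCo_spec g co hg h) co rfl (inj_OO g hg) (inj_k g hg)

theorem restr_spec (co : HopfRep.Comod k O N₂) (hg : Function.Injective g)
    (h : ∀ n, co.coact (g n) ∈ LinearMap.range (g.rTensor O)) (n : N₁) :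
    g.rTensor O ((restr g co hg h).coact n) = co.coact (g n) := restrCo_spec g co hg h n

/-- the coaction on a quotient -/
def quotCo (co : HopfRep.Comod k O N₁) (hg : Function.Surjective g)
    (h : ∀ n, g n = 0 → g.rTensor O (co.coact n) = 0) : N₂ →ₗ[k] N₂ ⊗[k] O :=
  ((LinearMap.ker g).liftQ (g.rTensor O ∘ₗ co.coact) fun n hn => h n hn) ∘ₗ
    (g.quotKerEquivOfSurjective hg).symm.toLinearMap

omit [Module.Flat k O] in
theorem quotCo_spec (co : HopfRep.Comod k O N₁) (hg : Function.Surjective g)
    (h : ∀ n, g n = 0 → g.rTensor O (co.coact n) = 0) (n : N₁) :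
    g.rTensor O (co.coact n) = quotCo g co hg h (g n) := by
  have h1 : (g.quotKerEquivOfSurjective hg).symm (g n) = Submodule.Quotient.mk n := by
    rw [LinearEquiv.symm_apply_eq]
    rfl
  change _ = ((LinearMap.ker g).liftQ (g.rTensor O ∘ₗ co.coact) fun n hn => h n hn)
    ((g.quotKerEquivOfSurjective hg).symm (g n))
  rw [h1]
  rfl

/-- the comodule structure on a quotient -/
@[reducible] def quo (co : HopfRep.Comod k O N₁) (hg : Function.Surjective g)
    (h : ∀ n, g n = 0 → g.rTensor O (co.coact n) = 0) : HopfRep.Comod k O N₂ :=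
  comodOfSurj (c₂ := quotCo g co hg h) (quotCo_spec g co hg h) co rfl hg

omit [Module.Flat k O] in
theorem quo_spec (co : HopfRep.Comod k O N₁) (hg : Function.Surjective g)
    (h : ∀ n, g n = 0 → g.rTensor O (co.coact n) = 0) (n : N₁) :
    (quo g co hg h).coact (g n) = g.rTensor O (co.coact n) := (quotCo_spec g co hg h n).symm

end

end Groth.Agent.ResProp.EF.K787
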