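import Mathlib.Algebra.Homology.Bifunctor
import Mathlib.Algebra.Homology.HomologicalComplexLimits
import Mathlib.Algebra.Homology.CochainComplexOpposite
import Mathlib.Algebra.Homology.BifunctorShift

/-!
# `Y ⊗ -` on complexes preserves colimits

`F : C₁ ⥤ C₂ ⥤ D` additive, `Y` a complex of `C₁` such that all `F (Y^p, -)` preserve colimits of shape `J`: then
`F.map₂CochainComplex.obj Y` preserves colimits of shape `J` ((O4) of helper386, `hcol` of `F5.allHit_of_rep`).
-/

set_option autoImplicit false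
set_option backward.isDefEq.respectTransparency false
set_option backward.isDefEq.respectTransparency.types false

universe w' w v₃ u₃ v₂ u₂ v₁ u₁

open CategoryTheory CategoryTheory.Limits HomologicalComplex ComplexShape

namespace Groth.Agent.ResProp.EF.K787

variable {C₁ : Type u₁} {C₂ : Type u₂} {D : Type u₃} [Category.{v₁} C₁] [Category.{v₂} C₂] [Category.{v₃} D]
  [Preadditive C₁] [Preadditive C₂] [Preadditive D]
  (F : C₁ ⥤ C₂ ⥤ D) [F.Additive] [∀ M, (F.obj M).Additive]
  [∀ (K : CochainComplex C₁ ℤ) (L : CochainComplex C₂ ℤ), CochainComplex.HasMapBifunctor K L F]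

theorem ι_map₂_map (Y : CochainComplex C₁ ℤ) {L L' : CochainComplex C₂ ℤ} (f : L ⟶ L') (p q n : ℤ)
    (h : π (up ℤ) (up ℤ) (up ℤ) ⟨p, q⟩ = n) :
    ιMapBifunctor Y L F (up ℤ) p q n h ≫ ((F.map₂CochainComplex.obj Y).map f).f n =
      (F.obj (Y.X p)).map (f.f q) ≫ ιMapBifunctor Y L' F (up ℤ) p q n h := by
  have h3 := ι_mapBifunctorMap (𝟙 Y) f F (up ℤ) p q n h
  have h4 : (F.map ((𝟙 Y : Y ⟶ Y).f p)).app (L.X q) = 𝟙 _ := by
    rw [HomologicalComplex.id_f, CategoryTheory.Functor.map_id, NatTrans.id_app]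
  rw [h4, Category.id_comp] at h3
  exact h3

/-- **`F(Y, -)` on complexes preserves the colimit of `K` if all `F(Y^p, -)` preserve the colimits of the `K^q`** -/
theorem preservesColimit_map₂ {J : Type w} [Category.{w'} J] [HasColimitsOfShape J C₂]
    (Y : CochainComplex C₁ ℤ) (K : J ⥤ CochainComplex C₂ ℤ)
    [∀ p q : ℤ, PreservesColimit (K ⋙ HomologicalComplex.eval C₂ (ComplexShape.up ℤ) q) (F.obj (Y.X p))] :
    PreservesColimit K (F.map₂CochainComplex.obj Y) := by
  constructor
  intro c hc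
  constructor
  have hc' : ∀ q : ℤ, IsColimit ((HomologicalComplex.eval C₂ (ComplexShape.up ℤ) q).mapCocone c) :=
    fun q => isColimitOfPreserves _ hc
  have hT : ∀ p q : ℤ, IsColimit ((F.obj (Y.X p)).mapCocone
      ((HomologicalComplex.eval C₂ (ComplexShape.up ℤ) q).mapCocone c)) :=
    fun p q => isColimitOfPreserves (F.obj (Y.X p)) (hc' q)
  refine isColimitOfEval _ _ (fun n => ?_)
  let cc (s : Cocone ((K ⋙ F.map₂CochainComplex.obj Y) ⋙ eval D (ComplexShape.up ℤ) n)) (p q : ℤ)
      (h : π (up ℤ) (up ℤ) (up ℤ) ⟨p, q⟩ = n) :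
      Cocone ((K ⋙ HomologicalComplex.eval C₂ (ComplexShape.up ℤ) q) ⋙ F.obj (Y.X p)) := Cocone.mk s.pt
        { app := fun j => ιMapBifunctor Y (K.obj j) F (up ℤ) p q n h ≫ s.ι.app j
          naturality := by
            intro j j' f
            have h1 := s.w f
            have h3 := ι_map₂_map F Y (K.map f) p q n h
            dsimp
            rw [← h1, Category.comp_id]
            exact ((Category.assoc _ _ _).symm.trans (congrArg (fun t => t ≫ s.ι.app j') h3.symm)).trans
              (Category.assoc _ _ _) }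
  refine ⟨fun s => mapBifunctorDesc (K₁ := Y) (K₂ := c.pt) (F := F) (c := up ℤ) (j := n)
      (fun p q h => (hT p q).desc (cc s p q h)), fun s j => ?_, fun s m hm => ?_⟩
  · refine mapBifunctor.hom_ext (K₁ := Y) (K₂ := K.obj j) (F := F) (c := up ℤ) (fun p q h => ?_)
    have h3 := ι_map₂_map F Y (c.ι.app j) p q n h
    refine ((Category.assoc _ _ _).symm.trans (congrArg (fun t => t ≫ mapBifunctorDesc (K₁ := Y) (K₂ := c.pt) (F := F)
      (c := up ℤ) (j := n) (fun p q h => (hT p q).desc (cc s p q h))) h3)).trans ?_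
    refine (Category.assoc _ _ _).trans ?_
    refine (congrArg (fun t => (F.obj (Y.X p)).map ((c.ι.app j).f q) ≫ t)
      (ι_mapBifunctorDesc (K₁ := Y) (K₂ := c.pt) (F := F) (c := up ℤ)
        (fun p q h => (hT p q).desc (cc s p q h)) p q h)).trans ?_
    exact (hT p q).fac (cc s p q h) j
  · refine mapBifunctor.hom_ext (K₁ := Y) (K₂ := c.pt) (F := F) (c := up ℤ) (fun p q h => ?_)
    refine Eq.trans ?_ (ι_mapBifunctorDesc (K₁ := Y) (K₂ := c.pt) (F := F) (c := up ℤ)
        (fun p q h => (hT p q).desc (cc s p q h)) p q h).symm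
    refine (hT p q).hom_ext (fun j => ?_)
    refine Eq.trans ?_ ((hT p q).fac (cc s p q h) j).symm
    have h3 := ι_map₂_map F Y (c.ι.app j) p q n h
    refine ((Category.assoc _ _ _).symm.trans (congrArg (fun t => t ≫ m) h3.symm)).trans ?_
    refine (Category.assoc _ _ _).trans ?_
    exact congrArg (fun t => ιMapBifunctor Y (K.obj j) F (up ℤ) p q n h ≫ t) (hm j)

/-- **(O4)** `F(Y, -)` preserves colimits of shape `J` if every `F(Y^p, -)` does -/
theorem preservesColimitsOfShape_map₂ (J : Type w) [Category.{w'} J] [HasColimitsOfShape J C₂]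
    (Y : CochainComplex C₁ ℤ) [∀ p : ℤ, PreservesColimitsOfShape J (F.obj (Y.X p))] :
    PreservesColimitsOfShape J (F.map₂CochainComplex.obj Y) where
  preservesColimit {K} := preservesColimit_map₂ F Y K

end Groth.Agent.ResProp.EF.K787
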